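import Mathlib
import Groth.Prelude.Def_GrLC
import Groth.Agent.RegLocal.Consequences
import Groth.Agent.CyclicRootLib.Regular

/-!
Regularity of `R ⧸ (t - 1)` for a unit `t` of positive degree in a regular graded ring.
-/

universe u

namespace GrUnitRegLib

open IsLocalRing

variable {R : Type u} [CommRing R] (𝒜 : ℤ → AddSubgroup R) [GradedRing 𝒜]

/-- ring maps out of a graded ring, from their components -/
noncomputable def gradedLift {S : Type u} [CommRing S] (f : ∀ i, 𝒜 i →+ S)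
    (h1 : f 0 ⟨1, SetLike.one_mem_graded 𝒜⟩ = 1)
    (hmul : ∀ {i j} (a : 𝒜 i) (b : 𝒜 j),
      f (i + j) ⟨(a : R) * b, SetLike.mul_mem_graded a.2 b.2⟩ = f i a * f j b) : R →+* S :=
  (DirectSum.toSemiring f h1 (fun a b => hmul a b)).comp (DirectSum.decomposeRingEquiv 𝒜).toRingHom

lemma gradedLift_apply {S : Type u} [CommRing S] (f : ∀ i, 𝒜 i →+ S)
    (h1 : f 0 ⟨1, SetLike.one_mem_graded 𝒜⟩ = 1)
    (hmul : ∀ {i j} (a : 𝒜 i) (b : 𝒜 j),
      f (i + j) ⟨(a : R) * b, SetLike.mul_mem_graded a.2 b.2⟩ = f i a * f j b)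
    {i : ℤ} (x : R) (hx : x ∈ 𝒜 i) : gradedLift 𝒜 f h1 hmul x = f i ⟨x, hx⟩ := by
  show DirectSum.toSemiring f h1 (fun a b => hmul a b) (DirectSum.decompose 𝒜 x) = _
  rw [DirectSum.decompose_of_mem 𝒜 hx, DirectSum.toSemiring_of]

lemma ringHom_ext {S : Type u} [CommRing S] {f g : R →+* S}
    (h : ∀ i, ∀ x ∈ 𝒜 i, f x = g x) : f = g := by
  refine RingHom.ext fun z => ?_
  induction z using DirectSum.Decomposition.inductionOn 𝒜 with
  | zero => simp
  | homogeneous m => exact h _ _ m.2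
  | add a b ha hb => rw [map_add, map_add, ha, hb]

lemma inv_mem {i : ℤ} (u : Rˣ) (hu : (u : R) ∈ 𝒜 i) : ((u⁻¹ : Rˣ) : R) ∈ 𝒜 (-i) := by
  have h : (u : R) * (DirectSum.decompose 𝒜 ((u⁻¹ : Rˣ) : R) (-i) : R) = 1 := by
    rw [← DirectSum.coe_decompose_mul_add_of_left_mem 𝒜 hu, add_neg_cancel, Units.mul_inv,
      DirectSum.decompose_of_mem_same 𝒜 (SetLike.one_mem_graded 𝒜)]
  rw [Units.inv_eq_of_mul_eq_one_right h]
  exact SetLike.coe_mem _

lemma zpow_mem {i : ℤ} (u : Rˣ) (hu : (u : R) ∈ 𝒜 i) (j : ℤ) :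
    ((u ^ j : Rˣ) : R) ∈ 𝒜 (j * i) := by
  induction j using Int.induction_on with
  | zero => simpa using SetLike.one_mem_graded 𝒜
  | succ n ih =>
    rw [zpow_add_one, Units.val_mul, add_mul, one_mul]
    exact SetLike.mul_mem_graded ih hu
  | pred n ih =>
    rw [zpow_sub_one, Units.val_mul, sub_mul, one_mul, sub_eq_add_neg]
    exact SetLike.mul_mem_graded ih (inv_mem 𝒜 u hu)

variable [IsLocalRing (GrLC.deg0 𝒜)] (N : ℕ) (hN : 0 < N) (t : Rˣ)
  (ht : (t : R) ∈ 𝒜 (N : ℤ))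
  (hmin : ∀ (n : ℤ), 0 < n → n < (N : ℤ) → ∀ s ∈ 𝒜 n, ¬ IsUnit s)

include hN ht hmin in
lemma dvd_of_isUnit {i : ℤ} {s : R} (hs : s ∈ 𝒜 i) (hu : IsUnit s) : (N : ℤ) ∣ i := by
  by_contra h
  have hN' : (N : ℤ) ≠ 0 := by omega
  have h0 : 0 < i % N := lt_of_le_of_ne (Int.emod_nonneg _ hN')
    (fun h0 => h (Int.dvd_of_emod_eq_zero h0.symm))
  refine hmin (i % N) h0 (Int.emod_lt_of_pos _ (by omega)) _ ?_
    (hu.mul (t ^ (-(i / N))).isUnit)
  have : i % N = i + -(i / N) * N := by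
    rw [Int.emod_def]; ring
  rw [this]
  exact SetLike.mul_mem_graded hs (zpow_mem 𝒜 t ht _)

/-- the degree zero element `x t^{-i/N}` -/
noncomputable def red {i : ℤ} (h : (N : ℤ) ∣ i) (x : 𝒜 i) : GrLC.deg0 𝒜 :=
  ⟨(x : R) * ((t ^ (-(i / N)) : Rˣ) : R), by
    have h2 := SetLike.mul_mem_graded x.2 (zpow_mem 𝒜 t ht (-(i / N)))
    have e : i + -(i / (N : ℤ)) * N = 0 := by
      rw [neg_mul, Int.ediv_mul_cancel h]; ring
    rwa [e] at h2⟩

open scoped Classical in
/-- components of the first order map at the point `t = 1` of the punctured closed orbit -/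
noncomputable def comp (i : ℤ) : 𝒜 i →+ DualNumber (ResidueField (GrLC.deg0 𝒜)) :=
  AddMonoidHom.mk' (fun x => if h : (N : ℤ) ∣ i then
      TrivSqZeroExt.inl (residue _ (red 𝒜 N t ht h x)) +
        TrivSqZeroExt.inr (((i / N : ℤ) : ResidueField (GrLC.deg0 𝒜)) * residue _ (red 𝒜 N t ht h x))
    else 0) (by
    intro x y
    by_cases h : (N : ℤ) ∣ i
    · have : red 𝒜 N t ht h (x + y) = red 𝒜 N t ht h x + red 𝒜 N t ht h y :=
        Subtype.ext (by simp [red, add_mul])
      simp only [dif_pos h, this, map_add, mul_add, TrivSqZeroExt.inl_add, TrivSqZeroExt.inr_add]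
      abel
    · simp [dif_neg h])

lemma comp_one : comp 𝒜 N t ht 0 ⟨1, SetLike.one_mem_graded 𝒜⟩ = 1 := by
  have h : red 𝒜 N t ht (dvd_zero (N : ℤ)) ⟨1, SetLike.one_mem_graded 𝒜⟩ = 1 :=
    Subtype.ext (by simp [red])
  simp [comp, h]

include hN hmin in
lemma comp_mul {i j : ℤ} (a : 𝒜 i) (b : 𝒜 j) :
    comp 𝒜 N t ht (i + j) ⟨(a : R) * b, SetLike.mul_mem_graded a.2 b.2⟩ =
      comp 𝒜 N t ht i a * comp 𝒜 N t ht j b := by
  by_cases hij : (N : ℤ) ∣ i + j
  · by_cases hi : (N : ℤ) ∣ i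
    · have hj : (N : ℤ) ∣ j := (dvd_add_right hi).1 hij
      have hd : (i + j) / (N : ℤ) = i / N + j / N := Int.add_ediv_of_dvd_left hi
      have h : red 𝒜 N t ht hij ⟨(a : R) * b, SetLike.mul_mem_graded a.2 b.2⟩ =
          red 𝒜 N t ht hi a * red 𝒜 N t ht hj b := Subtype.ext (by
        simp only [red, hd, neg_add, zpow_add, Units.val_mul, Subring.coe_mul]
        ring)
      simp only [comp, AddMonoidHom.mk'_apply, dif_pos hij, dif_pos hi, dif_pos hj, h, map_mul, hd,
        Int.cast_add]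
      ext <;> simp [TrivSqZeroExt.fst_mul, TrivSqZeroExt.snd_mul]
      ring
    · have hnu : red 𝒜 N t ht hij ⟨(a : R) * b, SetLike.mul_mem_graded a.2 b.2⟩ ∈
          maximalIdeal (GrLC.deg0 𝒜) := by
        rw [IsLocalRing.mem_maximalIdeal, mem_nonunits_iff]
        intro hu
        have := hu.map (GrLC.deg0 𝒜).subtype
        exact hi (dvd_of_isUnit 𝒜 N hN t ht hmin a.2 (isUnit_of_mul_isUnit_left (isUnit_of_mul_isUnit_left this)))
      simp only [comp, AddMonoidHom.mk'_apply, dif_pos hij, dif_neg hi,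
        (residue_eq_zero_iff _).2 hnu]
      simp
  · have : ¬ (N : ℤ) ∣ i ∨ ¬ (N : ℤ) ∣ j := by
      by_contra h; push Not at h; exact hij (dvd_add h.1 h.2)
    rcases this with h | h <;> simp [comp, dif_neg hij, dif_neg h]

/-- the first order map -/
noncomputable def psi : R →+* DualNumber (ResidueField (GrLC.deg0 𝒜)) :=
  gradedLift 𝒜 (comp 𝒜 N t ht) (comp_one 𝒜 N t ht) (comp_mul 𝒜 N hN t ht hmin)

/-- its value at the point -/
noncomputable def pt : R →+* ResidueField (GrLC.deg0 𝒜) :=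
  (TrivSqZeroExt.fstHom (ResidueField (GrLC.deg0 𝒜)) (ResidueField (GrLC.deg0 𝒜))
    (ResidueField (GrLC.deg0 𝒜))).toRingHom.comp (psi 𝒜 N hN t ht hmin)

lemma psi_apply {i : ℤ} {x : R} (hx : x ∈ 𝒜 i) :
    psi 𝒜 N hN t ht hmin x = comp 𝒜 N t ht i ⟨x, hx⟩ :=
  gradedLift_apply 𝒜 _ _ _ x hx

lemma psi_sub_one : psi 𝒜 N hN t ht hmin ((t : R) - 1) =
    TrivSqZeroExt.inr (1 : ResidueField (GrLC.deg0 𝒜)) := by
  have h : red 𝒜 N t ht (dvd_refl (N : ℤ)) ⟨t, ht⟩ = 1 := Subtype.ext (by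
    simp only [red, Int.ediv_self (show (N : ℤ) ≠ 0 by omega), zpow_neg_one]
    simp)
  rw [map_sub, map_one, psi_apply 𝒜 N hN t ht hmin ht]
  simp [comp, h, Int.ediv_self (show (N : ℤ) ≠ 0 by omega)]

lemma pt_deg0 (r : GrLC.deg0 𝒜) : pt 𝒜 N hN t ht hmin (r : R) = residue _ r := by
  have h : red 𝒜 N t ht (dvd_zero (N : ℤ)) ⟨r, r.2⟩ = r := Subtype.ext (by simp [red])
  have h0 : psi 𝒜 N hN t ht hmin (r : R) = TrivSqZeroExt.inl (residue _ r) := by
    rw [psi_apply 𝒜 N hN t ht hmin r.2]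
    simp only [comp, AddMonoidHom.mk'_apply, dif_pos (dvd_zero (N : ℤ)), Int.zero_ediv,
      Int.cast_zero, zero_mul, TrivSqZeroExt.inr_zero, add_zero]
    exact congrArg _ (congrArg _ h)
  show TrivSqZeroExt.fst (psi 𝒜 N hN t ht hmin (r : R)) = _
  rw [h0, TrivSqZeroExt.fst_inl]

lemma pt_surjective : Function.Surjective (pt 𝒜 N hN t ht hmin) := fun c => by
  obtain ⟨r, rfl⟩ := residue_surjective c
  exact ⟨r, pt_deg0 𝒜 N hN t ht hmin r⟩

lemma sub_one_mem : (t : R) - 1 ∈ RingHom.ker (pt 𝒜 N hN t ht hmin) := by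
  show TrivSqZeroExt.fst (psi 𝒜 N hN t ht hmin ((t : R) - 1)) = 0
  rw [psi_sub_one]
  simp

lemma ker_isMaximal : (RingHom.ker (pt 𝒜 N hN t ht hmin)).IsMaximal :=
  RingHom.ker_isMaximal_of_surjective _ (pt_surjective 𝒜 N hN t ht hmin)

/-- `ker pt` is the only maximal ideal containing `t - 1`. -/
lemma eq_ker_of_isMaximal (P : Ideal R) [hP : P.IsMaximal] (h : (t : R) - 1 ∈ P) :
    P = RingHom.ker (pt 𝒜 N hN t ht hmin) := by
  have hone : ∀ j : ℤ, Ideal.Quotient.mk P ((t ^ j : Rˣ) : R) = 1 := by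
    intro j
    have h1 : Units.map (Ideal.Quotient.mk P).toMonoidHom t = 1 :=
      Units.ext (show Ideal.Quotient.mk P (t : R) = 1 by
        rw [← map_one (Ideal.Quotient.mk P), Ideal.Quotient.eq]; exact h)
    have := congrArg Units.val (map_zpow (Units.map (Ideal.Quotient.mk P).toMonoidHom) t j)
    rw [h1, one_zpow] at this
    exact this
  -- the degree zero part is integrally below
  have hint : Algebra.IsIntegral (GrLC.deg0 𝒜) (R ⧸ P) := by
    refine ⟨fun z => ?_⟩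
    obtain ⟨z, rfl⟩ := Ideal.Quotient.mk_surjective z
    induction z using DirectSum.Decomposition.inductionOn 𝒜 with
    | zero => rw [map_zero]; exact isIntegral_zero
    | add a b ha hb => rw [map_add]; exact ha.add hb
    | @homogeneous i m =>
      refine IsIntegral.of_pow hN ?_
      let r : GrLC.deg0 𝒜 := ⟨(m : R) ^ N * ((t ^ (-i) : Rˣ) : R), by
        have h2 := SetLike.mul_mem_graded (SetLike.pow_mem_graded N m.2) (zpow_mem 𝒜 t ht (-i))
        have e : N • i + -i * (N : ℤ) = 0 := by rw [nsmul_eq_mul]; ring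
        rwa [e] at h2⟩
      have : (Ideal.Quotient.mk P (m : R)) ^ N = algebraMap (GrLC.deg0 𝒜) (R ⧸ P) r := by
        show _ = Ideal.Quotient.mk P ((m : R) ^ N * ((t ^ (-i) : Rˣ) : R))
        rw [map_mul, hone, mul_one, map_pow]
      rw [this]
      exact isIntegral_algebraMap
  letI : Field (R ⧸ P) := Ideal.Quotient.field P
  have hker : (Ideal.comap (algebraMap (GrLC.deg0 𝒜) (R ⧸ P)) ⊥).IsMaximal :=
    Ideal.isMaximal_comap_of_isIntegral_of_isMaximal ⊥
  have hm : ∀ r : GrLC.deg0 𝒜, r ∈ maximalIdeal (GrLC.deg0 𝒜) → (r : R) ∈ P := by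
    intro r hr
    rw [← IsLocalRing.eq_maximalIdeal hker, Ideal.mem_comap] at hr
    exact Ideal.Quotient.eq_zero_iff_mem.1 hr
  have hred : ∀ z : R, ∃ r : GrLC.deg0 𝒜,
      z - (r : R) ∈ P ∧ pt 𝒜 N hN t ht hmin z = residue _ r := by
    intro z
    induction z using DirectSum.Decomposition.inductionOn 𝒜 with
    | zero => exact ⟨0, by simp, by simp⟩
    | add a b ha hb =>
      obtain ⟨r, hr, hr'⟩ := ha
      obtain ⟨s, hs, hs'⟩ := hb
      refine ⟨r + s, ?_, by rw [map_add, map_add, hr', hs']⟩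
      rw [Subring.coe_add, add_sub_add_comm]
      exact add_mem hr hs
    | @homogeneous i m =>
      show ∃ r : GrLC.deg0 𝒜, (m : R) - (r : R) ∈ P ∧
        TrivSqZeroExt.fst (psi 𝒜 N hN t ht hmin (m : R)) = residue _ r
      rw [psi_apply 𝒜 N hN t ht hmin m.2]
      by_cases hi : (N : ℤ) ∣ i
      · refine ⟨red 𝒜 N t ht hi m, ?_, by simp [comp, dif_pos hi]⟩
        rw [← Ideal.Quotient.eq]
        show _ = Ideal.Quotient.mk P ((m : R) * _)
        rw [map_mul, hone, mul_one]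
      · refine ⟨0, ?_, by simp [comp, dif_neg hi]⟩
        rw [Subring.coe_zero, sub_zero]
        refine hP.isPrime.mem_of_pow_mem N ?_
        let r : GrLC.deg0 𝒜 := ⟨(m : R) ^ N * ((t ^ (-i) : Rˣ) : R), by
          have h2 := SetLike.mul_mem_graded (SetLike.pow_mem_graded N m.2) (zpow_mem 𝒜 t ht (-i))
          have e : N • i + -i * (N : ℤ) = 0 := by rw [nsmul_eq_mul]; ring
          rwa [e] at h2⟩
        have hr : r ∈ maximalIdeal (GrLC.deg0 𝒜) := by
          rw [IsLocalRing.mem_maximalIdeal, mem_nonunits_iff]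
          intro hu
          have := isUnit_of_mul_isUnit_left (hu.map (GrLC.deg0 𝒜).subtype)
          exact hi (dvd_of_isUnit 𝒜 N hN t ht hmin m.2 ((isUnit_pow_iff hN.ne').1 this))
        rw [← Ideal.Quotient.eq_zero_iff_mem]
        have := Ideal.Quotient.eq_zero_iff_mem.2 (hm r hr)
        simp only [r, map_mul, hone, mul_one] at this
        exact this
  refine ((ker_isMaximal 𝒜 N hN t ht hmin).eq_of_le hP.ne_top fun z hz => ?_).symm
  obtain ⟨r, hr, hr'⟩ := hred z
  rw [RingHom.mem_ker.1 hz] at hr'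
  simpa using P.add_mem hr (hm r ((residue_eq_zero_iff r).1 hr'.symm))

include hN ht hmin in
lemma isLocalRing_quotient : IsLocalRing (R ⧸ Ideal.span {(t : R) - 1}) := by
  set I := Ideal.span {(t : R) - 1}
  have := ker_isMaximal 𝒜 N hN t ht hmin
  refine IsLocalRing.of_unique_max_ideal ⟨(RingHom.ker (pt 𝒜 N hN t ht hmin)).map (Ideal.Quotient.mk I),
    ?_, fun M hM => ?_⟩
  · refine (Ideal.map_eq_top_or_isMaximal_of_surjective _ Ideal.Quotient.mk_surjective this).resolve_left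
      fun h => this.ne_top ?_
    have := congrArg (Ideal.comap (Ideal.Quotient.mk I)) h
    rwa [Ideal.comap_map_of_surjective _ Ideal.Quotient.mk_surjective, Ideal.comap_top,
      ← RingHom.ker_eq_comap_bot, Ideal.mk_ker,
      sup_eq_left.2 ((Ideal.span_singleton_le_iff_mem _).2 (sub_one_mem 𝒜 N hN t ht hmin))] at this
  · have := Ideal.comap_isMaximal_of_surjective (Ideal.Quotient.mk I) Ideal.Quotient.mk_surjective
      (K := M)
    rw [← eq_ker_of_isMaximal 𝒜 N hN t ht hmin (Ideal.comap (Ideal.Quotient.mk I) M) (by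
      rw [Ideal.mem_comap, Ideal.Quotient.eq_zero_iff_mem.2 (Ideal.mem_span_singleton_self _)]
      exact zero_mem _), Ideal.map_comap_of_surjective _ Ideal.Quotient.mk_surjective]

include hN ht hmin in
theorem isRegularLocalRing_quotient
    (hreg : ∀ (p : Ideal R) [p.IsPrime], IsRegularLocalRing (Localization.AtPrime p)) :
    IsRegularLocalRing (R ⧸ Ideal.span {(t : R) - 1}) := by
  set Q := RingHom.ker (pt 𝒜 N hN t ht hmin) with hQ
  have hQmax : Q.IsMaximal := ker_isMaximal 𝒜 N hN t ht hmin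
  have hQp : Q.IsPrime := hQmax.isPrime
  set L := Localization.AtPrime Q
  have := hreg Q
  set C := R ⧸ Ideal.span {(t : R) - 1}
  have hCloc : IsLocalRing C := isLocalRing_quotient 𝒜 N hN t ht hmin
  set x := algebraMap R L ((t : R) - 1) with hx
  have hxm : x ∈ maximalIdeal L := by
    rw [← Localization.AtPrime.map_eq_maximalIdeal]
    exact Ideal.mem_map_of_mem _ (sub_one_mem 𝒜 N hN t ht hmin)
  have hx2 : x ∉ maximalIdeal L ^ 2 := by
    rw [← Localization.AtPrime.map_eq_maximalIdeal, ← Ideal.map_pow,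
      IsLocalization.algebraMap_mem_map_algebraMap_iff Q.primeCompl]
    rintro ⟨s, hs, hmem⟩
    have hkill : ∀ z ∈ Q ^ 2, psi 𝒜 N hN t ht hmin z = 0 := by
      intro z hz
      rw [pow_two] at hz
      induction hz using Submodule.mul_induction_on' with
      | mem_mul_mem a ha b hb =>
        have ha' : TrivSqZeroExt.fst (psi 𝒜 N hN t ht hmin a) = 0 := ha
        have hb' : TrivSqZeroExt.fst (psi 𝒜 N hN t ht hmin b) = 0 := hb
        rw [map_mul]
        ext <;> simp [TrivSqZeroExt.fst_mul, TrivSqZeroExt.snd_mul, ha', hb']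
      | add a _ b _ ha hb => rw [map_add, ha, hb, add_zero]
    have h0 := congrArg TrivSqZeroExt.snd (hkill _ hmem)
    rw [map_mul, psi_sub_one] at h0
    simp [TrivSqZeroExt.snd_mul] at h0
    exact hs h0
  obtain ⟨d, hd⟩ := Groth.Agent.RegLocal.exists_nat_ringKrullDim L
  have hq := (Groth.Agent.RegLocal.quot_singleton L hd hxm hx2).1
  -- the two rings agree
  have hunit : ∀ y : Q.primeCompl, IsUnit (Ideal.Quotient.mk (Ideal.span {(t : R) - 1}) (y : R)) := by
    intro y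
    by_contra hnu
    obtain ⟨M, hM, hyM⟩ := exists_max_ideal_of_mem_nonunits hnu
    have := Ideal.comap_isMaximal_of_surjective (Ideal.Quotient.mk (Ideal.span {(t : R) - 1}))
      Ideal.Quotient.mk_surjective (K := M)
    have h2 := eq_ker_of_isMaximal 𝒜 N hN t ht hmin
      (Ideal.comap (Ideal.Quotient.mk (Ideal.span {(t : R) - 1})) M) (by
      rw [Ideal.mem_comap, Ideal.Quotient.eq_zero_iff_mem.2 (Ideal.mem_span_singleton_self _)]
      exact zero_mem _)
    exact y.2 ((h2.le : _) (Ideal.mem_comap.2 hyM))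
  let f : C →+* L ⧸ Ideal.span {x} :=
    Ideal.Quotient.lift _ ((Ideal.Quotient.mk (Ideal.span {x})).comp (algebraMap R L)) fun a ha => by
      obtain ⟨c, rfl⟩ := Ideal.mem_span_singleton'.1 ha
      rw [map_mul, RingHom.comp_apply, RingHom.comp_apply, ← hx,
        Ideal.Quotient.eq_zero_iff_mem.2 (Ideal.mem_span_singleton_self x), mul_zero]
  let g : L ⧸ Ideal.span {x} →+* C :=
    Ideal.Quotient.lift _ (IsLocalization.lift (M := Q.primeCompl) hunit) fun a ha => by
      obtain ⟨c, rfl⟩ := Ideal.mem_span_singleton'.1 ha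
      rw [map_mul, hx, IsLocalization.lift_eq,
        Ideal.Quotient.eq_zero_iff_mem.2 (Ideal.mem_span_singleton_self _), mul_zero]
  refine IsRegularLocalRing.of_ringEquiv (RingEquiv.ofRingHom g f ?_ ?_)
  · refine Ideal.Quotient.ringHom_ext (RingHom.ext fun r => ?_)
    simp only [f, g, RingHom.comp_apply, RingHom.id_apply, Ideal.Quotient.lift_mk, IsLocalization.lift_eq]
  · refine Ideal.Quotient.ringHom_ext (IsLocalization.ringHom_ext Q.primeCompl (RingHom.ext fun r => ?_))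
    simp only [f, g, RingHom.comp_apply, RingHom.id_apply, Ideal.Quotient.lift_mk, IsLocalization.lift_eq]
    exact Ideal.Quotient.lift_mk _ _ _

end GrUnitRegLib
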